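import Groth.Agent.QGor.K968.LiftCrit
import Groth.Agent.QGor.K970.InvAt
import Groth.Agent.QGor.K970.RelSk1

/-!
# A flat module with invertible restriction to the fibre is invertible

* `equiv_of_quot`: `A → B` local, `M` finite over `B` and flat over `A` with `M / m_A M ≃ B / m_A B` ⟹ `M ≃ B`;
* `invertibleAt_of_fib`: the version at a point of a fibre.
-/

set_option autoImplicit false
set_option linter.style.haveILetI false
universe u

open AlgebraicGeometry CategoryTheory Limits IsLocalRing TopologicalSpace

namespace K682.FlatFib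

section Alg

variable {A B : Type u} [CommRing A] [CommRing B] [IsNoetherianRing B] [IsLocalRing A]
  [IsLocalRing B] [Algebra A B] [IsLocalHom (algebraMap A B)] (M : Type u) [AddCommGroup M]
  [Module B M] [Module A M] [IsScalarTower A B M] [Module.Finite B M] [Module.Flat A M]

theorem equiv_of_quot
    (e : (M ⧸ (EGA4.mB A B • (⊤ : Submodule B M))) ≃ₗ[B] B ⧸ EGA4.mB A B) :
    Nonempty (M ≃ₗ[B] B) := by
  have hle : EGA4.mB A B ≤ maximalIdeal B := map_maximalIdeal_le (algebraMap A B)
  obtain ⟨m0, hm0⟩ := Submodule.Quotient.mk_surjective _ (e.symm (Ideal.Quotient.mk _ 1))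
  have he : e (Submodule.Quotient.mk m0) = Ideal.Quotient.mk _ 1 := by
    rw [hm0, LinearEquiv.apply_symm_apply]
  have hmul : ∀ b : B, e (Submodule.Quotient.mk (b • m0)) = Ideal.Quotient.mk _ b := by
    intro b
    rw [Submodule.Quotient.mk_smul, map_smul, he]
    change Ideal.Quotient.mk _ (b * 1) = _
    rw [mul_one]
  let f : B →ₗ[B] M := LinearMap.toSpanSingleton B _ m0
  have hfs : Function.Surjective f := by
    rw [← LinearMap.range_eq_top]
    apply top_le_iff.1
    refine Submodule.le_of_le_smul_of_le_jacobson_bot (I := EGA4.mB A B) Module.Finite.fg_top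
      (hle.trans (maximalIdeal_le_jacobson _)) ?_
    intro x _
    obtain ⟨b, hb⟩ := Ideal.Quotient.mk_surjective (e (Submodule.Quotient.mk x))
    have h1 : (Submodule.Quotient.mk (x - b • m0) : M ⧸ (EGA4.mB A B • (⊤ : Submodule B M))) = 0 := by
      apply e.injective
      rw [Submodule.Quotient.mk_sub, map_sub, hmul, hb, sub_self, map_zero]
    rw [Submodule.Quotient.mk_eq_zero] at h1
    rw [← sub_add_cancel x (b • m0)]
    exact Submodule.add_mem _ (Submodule.mem_sup_right h1) (Submodule.mem_sup_left ⟨b, rfl⟩)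
  have hfi : Function.Injective f := by
    rw [← LinearMap.ker_eq_bot]
    apply Submodule.eq_bot_of_le_smul_of_le_jacobson_bot (EGA4.mB A B) _ (IsNoetherian.noetherian _)
      ?_ (hle.trans (maximalIdeal_le_jacobson _))
    intro b hb
    have h1 : b ∈ EGA4.mB A B := by
      rw [← Ideal.Quotient.eq_zero_iff_mem, ← hmul b]
      have h2 : b • m0 = 0 := LinearMap.mem_ker.1 hb
      rw [h2, Submodule.Quotient.mk_zero, map_zero]
    exact K968.LiftCrit.mem_smul_ker (A := A) f hfs (maximalIdeal A) (x := b) (by
      change b ∈ EGA4.mB A B • (⊤ : Submodule B B)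
      simpa using h1) (LinearMap.mem_ker.1 hb)
  exact ⟨(LinearEquiv.ofBijective f ⟨hfi, hfs⟩).symm⟩

end Alg

section Sch

open Groth.Agent Groth.Agent.Flat2D.FiberStalk Groth.Agent.Fdesc.PullbackStalk K970.RelSk1

variable {X S : Scheme.{u}} (f : X ⟶ S) [IsLocallyNoetherian X]

/-- A coherent module flat over the base at a point of a fibre and whose restriction to the fibre is invertible
there is invertible at that point. -/
theorem invertibleAt_of_fib {M : X.Modules} (hM : Coh.IsCoh M) (s : S) (z : f.fiber s)
    (hflat : FlatMod.IsFlatOverAt f M (f.fiberι s z))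
    (hinv : RelCanon.InvertibleAt ((Scheme.Modules.pullback (f.fiberι s)).obj M) z) :
    RelCanon.InvertibleAt M (f.fiberι s z) := by
  set i := f.fiberι s with hi
  set y := i z with hy
  letI iA : Algebra (S.presheaf.stalk (f y)) (X.presheaf.stalk y) := (f.stalkMap y).hom.toAlgebra
  letI iG := FlatMod.moduleStalkOver f M y
  haveI : IsScalarTower (S.presheaf.stalk (f y)) (X.presheaf.stalk y) (M.presheaf.stalk y) :=
      IsScalarTower.of_algebraMap_smul fun r m => rfl
  haveI : Module.Finite (X.presheaf.stalk y) (M.presheaf.stalk y) :=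
    Divis.StalkMod.finite_stalk hM y
  haveI : IsLocalHom (algebraMap (S.presheaf.stalk (f y)) (X.presheaf.stalk y)) :=
    inferInstanceAs (IsLocalHom (f.stalkMap y).hom)
  haveI : Module.Flat (S.presheaf.stalk (f y)) (M.presheaf.stalk y) := hflat
  letI := stalkAlg i z
  letI := FlatMod.moduleStalkOver i ((Scheme.Modules.pullback i).obj M) z
  haveI := isScalarTower i ((Scheme.Modules.pullback i).obj M) z
  obtain ⟨e, he⟩ := exists_quot_equiv (can i M z) (isBaseChange_can i M z)
    (stalkMap_fiberι_surjective f s z) (fibreIdeal f y) (ker_stalkMap_fiberι f s z)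
  set φ : X.presheaf.stalk y →+* (f.fiber s).presheaf.stalk z := (i.stalkMap z).hom with hφ
  obtain ⟨n⟩ := K970.InvAt.nonempty_stalk_equiv z hinv
  let eR : (X.presheaf.stalk y ⧸ fibreIdeal f y) ≃+* (f.fiber s).presheaf.stalk z :=
    (Ideal.quotEquivOfEq (ker_stalkMap_fiberι f s z).symm).trans
      (RingHom.quotientKerEquivOfSurjective (stalkMap_fiberι_surjective f s z))
  have heR : ∀ b, eR (Ideal.Quotient.mk _ b) = φ b := fun b => rfl
  let E : (M.presheaf.stalk y ⧸ (fibreIdeal f y • (⊤ : Submodule (X.presheaf.stalk y)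
      (M.presheaf.stalk y)))) ≃ₗ[X.presheaf.stalk y] X.presheaf.stalk y ⧸ fibreIdeal f y :=
    { (e.trans n.symm.toAddEquiv).trans eR.symm.toAddEquiv with
      map_smul' := fun b m => by
        change eR.symm (n.symm (e (b • m))) = b • eR.symm (n.symm (e m))
        rw [he, map_smul, smul_eq_mul, map_mul]
        have h1 : eR.symm (φ b) = Ideal.Quotient.mk _ b := by
          rw [RingEquiv.symm_apply_eq, heR]
        have h2 : algebraMap (X.presheaf.stalk (i z)) ((f.fiber s).presheaf.stalk z) b = φ b := rfl
        rw [h2, h1]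
        rfl }
  obtain ⟨E'⟩ := equiv_of_quot (A := S.presheaf.stalk (f y)) (M.presheaf.stalk y) E
  exact (K970.InvAt.invertibleAt_iff_stalk_equiv hM y).mpr ⟨E'.symm⟩

end Sch

end K682.FlatFib
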