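import Groth.Agent.QGor.K968.LocKey3
import Groth.Agent.Ega4A.DepthBasic

/-!
# The local key lemma in terms of the local ring of the fibre

`φ : B → R` surjective with kernel `m_A B`.
-/

set_option autoImplicit false
universe u

namespace K682.KeyRing

variable {A B R : Type u} [CommRing A] [CommRing B] [IsNoetherianRing A] [IsNoetherianRing B]
  [IsLocalRing A] [IsLocalRing B] [Algebra A B] [IsLocalHom (algebraMap A B)] [Module.Flat A B]
  [CommRing R] (φ : B →+* R) (hφ : Function.Surjective φ) (hker : RingHom.ker φ = EGA4.mB A B)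

/-- `B / m_A B ≃ R`. -/
noncomputable def quotEquiv : (B ⧸ EGA4.mB A B) ≃+* R :=
  (Ideal.quotEquivOfEq hker.symm).trans (RingHom.quotientKerEquivOfSurjective hφ)

omit [IsNoetherianRing A] [IsNoetherianRing B] [IsLocalRing B] [IsLocalHom (algebraMap A B)]
  [Module.Flat A B] in
theorem quotEquiv_mk (b : B) : quotEquiv φ hφ hker (Ideal.Quotient.mk _ b) = φ b := rfl

include hφ hker

theorem iso_of_pow {J : Ideal B} (h2 : 2 ≤ LocCoh.idealDepth (J.map φ) R)
    (M : Type u) [AddCommGroup M] [Module B M] [Module.Finite B M] [Module.IsReflexive B M]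
    (hfree : ∀ q : PrimeSpectrum B, ¬ J ≤ q.asIdeal →
      Module.Free (Localization.AtPrime q.asIdeal) (LocalizedModule q.asIdeal.primeCompl M))
    (hcyc : ∀ (p : Ideal B) [p.IsPrime], ¬ J ≤ p → EGA4.mB A B ≤ p →
      ∃ y : M, ∀ x : M, ∃ t, t ∉ p ∧ ∃ b : B, t • x = b • y)
    (θ : M →+ R) (hθs : ∀ (b : B) (x : M), θ (b • x) = φ b * θ x)
    (hθ : ∀ (P : Ideal R) [P.IsPrime], ¬ J.map φ ≤ P → ∃ y : M, θ y ∉ P)
    (r : ℕ) (hr : IsUnit (r : B)) (q : M → B) (hq : ∀ (b : B) (x : M), q (b • x) = b ^ r * q x)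
    (hq' : ∀ (p : Ideal B) [p.IsPrime], ¬ J ≤ p → EGA4.mB A B ≤ p → ∃ y : M, q y ∉ p) :
    Nonempty (M ≃ₗ[B] B) := by
  have h2' : 2 ≤ LocCoh.idealDepth J (B ⧸ EGA4.mB A B) := by
    rw [Groth.Agent.Ega4A.DepthBasic.idealDepth_congr_of_surjective φ hφ J
      (B ⧸ EGA4.mB A B) R (quotEquiv φ hφ hker).toAddEquiv (by
        intro r m
        obtain ⟨m, rfl⟩ := Ideal.Quotient.mk_surjective m
        change quotEquiv φ hφ hker (Ideal.Quotient.mk _ (r * m)) =
          φ r * quotEquiv φ hφ hker (Ideal.Quotient.mk _ m)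
        rw [quotEquiv_mk, quotEquiv_mk, map_mul])]
    exact h2
  refine K968.LocKey.iso_of_pow h2' M hfree hcyc
    { toFun := fun m => (quotEquiv φ hφ hker).symm (θ m)
      map_add' := fun a b => by rw [map_add, map_add]
      map_smul' := fun b m => by
        rw [hθs, map_mul, RingHom.id_apply]
        have : (quotEquiv φ hφ hker).symm (φ b) = Ideal.Quotient.mk _ b := by
          rw [RingEquiv.symm_apply_eq, quotEquiv_mk]
        rw [this]
        rfl } ?_ r hr q hq hq'
  intro p _ hJ hm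
  have hker' : RingHom.ker φ ≤ p := hker.le.trans hm
  haveI : (p.map φ).IsPrime := Ideal.map_isPrime_of_surjective hφ hker'
  have hcomap : (p.map φ).comap φ = p := by
    rw [Ideal.comap_map_of_surjective φ hφ]
    refine sup_eq_left.mpr ?_
    exact hker'
  obtain ⟨y, hy⟩ := hθ (p.map φ) (fun h => hJ (by
    rw [← hcomap]
    exact Ideal.map_le_iff_le_comap.mp h))
  obtain ⟨b, hb⟩ := hφ (θ y)
  refine ⟨y, b, ?_, fun hbp => hy ?_⟩
  · change (quotEquiv φ hφ hker).symm (θ y) = _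
    rw [RingEquiv.symm_apply_eq, quotEquiv_mk, hb]
  · rw [← hb]
    exact Ideal.mem_map_of_mem φ hbp

end K682.KeyRing
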