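import Groth.Agent.QGor.K682.StalkPow
import Groth.Agent.QGor.K682.KeyRing
import Groth.Agent.QGor.K66.Main

/-!
# The key lemma at a point of a fibre

`X → S` an `S_2`-morphism, `F` coherent on `X`, invertible on `U`, `N` invertible on the fibre `X_s`, isomorphic to `F`
over `U`; codimension at least two off `U`. If `F^{[r]}` is invertible at `y`, `r` invertible in the residue field, and
`F_y` reflexive, then `F` is invertible at `y`.
-/

set_option autoImplicit false
set_option linter.style.haveILetI false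
universe u

open AlgebraicGeometry CategoryTheory Limits IsLocalRing TopologicalSpace RefHull

namespace K682.KeyPoint

open Groth.Agent Groth.Agent.CycB.LocQuot K66.StalkOff K66.FlatOff K66.Core K970.RelSk1 K66.SkFull
  Groth.Agent.Flat2D.FiberStalk Groth.Agent.Dcoh.StalkRestrict Groth.Agent.Fdesc.PullbackStalk
  Groth.Agent.CycB.ModStalk

section Cyc

variable {X : Scheme.{u}}

theorem mem_primeOf_iff {x ξ : X} (h : ξ ⤳ x) (a : X.presheaf.stalk x) :
    a ∈ (primeOf h).asIdeal ↔ ¬ IsUnit ((X.presheaf.stalkSpecializes h).hom a) := by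
  rw [primeOf_asIdeal h, mem_ker_specMap_iff]

/-- A generator at a generization comes from a stalk element. -/
theorem exists_cyc (F : X.Modules) (hF : Coh.IsQCoh F) {y w : X} (h : w ⤳ y)
    (hinv : RelCanon.InvertibleAt F w) :
    ∃ m : F.presheaf.stalk y, IsGen F w (F.presheaf.stalkSpecializes h m) ∧
      ∀ x : F.presheaf.stalk y, ∃ t, t ∉ (primeOf h).asIdeal ∧ ∃ b : X.presheaf.stalk y,
        t • x = b • m := by
  obtain ⟨e⟩ := K970.InvAt.nonempty_stalk_equiv w hinv
  letI := CycB.StalkLoc.specAlg h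
  letI := CycB.StalkLoc.specMod F h
  haveI := CycB.StalkLoc.isScalarTower F h
  haveI hm := CycB.StalkLoc.isLocalizedModule_specLin F hF h
  haveI hl : IsLocalization (RingHom.ker (Cyc.specMap y w h)).primeCompl (X.presheaf.stalk w) :=
    isLocalization_stalkSpecializes h
  obtain ⟨⟨m, s⟩, hms⟩ := IsLocalizedModule.surj (RingHom.ker (Cyc.specMap y w h)).primeCompl
    (CycB.StalkLoc.specLin F h) (e 1)
  have hms' : (X.presheaf.stalkSpecializes h).hom s • e 1 = F.presheaf.stalkSpecializes h m := hms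
  have hs : IsUnit ((X.presheaf.stalkSpecializes h).hom s) := by
    have := s.2
    rw [Ideal.mem_primeCompl_iff, mem_ker_specMap_iff, not_not] at this
    exact this
  have h1 : ∀ c : X.presheaf.stalk w, c • F.presheaf.stalkSpecializes h m =
      e (c * (X.presheaf.stalkSpecializes h).hom s) := by
    intro c
    rw [← hms', ← map_smul, ← map_smul]
    simp only [smul_eq_mul, mul_one]
  have hgen : IsGen F w (F.presheaf.stalkSpecializes h m) := by
    change Function.Bijective (fun c : X.presheaf.stalk w => c • F.presheaf.stalkSpecializes h m)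
    have h2 : (fun c : X.presheaf.stalk w => c • F.presheaf.stalkSpecializes h m) =
        e ∘ (fun c => c * (X.presheaf.stalkSpecializes h).hom s) := funext h1
    rw [h2]
    refine e.bijective.comp ?_
    exact IsUnit.isUnit_iff_mulRight_bijective.mp hs
  refine ⟨m, hgen, fun x => ?_⟩
  obtain ⟨c, hc⟩ := hgen.2 (F.presheaf.stalkSpecializes h x)
  simp only at hc
  obtain ⟨⟨b, t⟩, hbt⟩ := IsLocalization.surj (RingHom.ker (Cyc.specMap y w h)).primeCompl c
  have hbt' : c * (X.presheaf.stalkSpecializes h).hom t = (X.presheaf.stalkSpecializes h).hom b := hbt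
  have h3 : F.presheaf.stalkSpecializes h ((t : X.presheaf.stalk y) • x - b • m) = 0 := by
    rw [map_sub, stalkSpecializes_smul, stalkSpecializes_smul, ← hc, smul_smul]
    change ((X.presheaf.stalkSpecializes h).hom t * c) • _ - (X.presheaf.stalkSpecializes h).hom b • _ = 0
    rw [← hbt', mul_comm, sub_self]
  obtain ⟨a, ha, ham⟩ := CycB.CohStalk.exists_smul_eq_zero F hF h _ h3
  have hp : ∀ a : X.presheaf.stalk y, a ∉ RingHom.ker (Cyc.specMap y w h) →
      a ∉ (primeOf h).asIdeal := fun a ha => by rwa [primeOf_asIdeal h]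
  refine ⟨a * t, ?_, a * b, ?_⟩
  · intro hmem
    rcases (primeOf h).2.mem_or_mem hmem with h4 | h4
    · exact hp _ ha h4
    · exact hp _ t.2 h4
  · rw [smul_sub, sub_eq_zero] at ham
    rw [mul_smul, mul_smul]
    exact ham

end Cyc

section Main

variable {X S : Scheme.{u}} (f : X ⟶ S) [IsLocallyNoetherian X] [IsLocallyNoetherian S]

theorem invertibleAt_of_pow (hS : RelCanon.IsSkMor f 2) (U : X.Opens) (s : S) (z : f.fiber s)
    (hdim : ∀ z' : f.fiber s, f.fiberι s z' ∉ U →
      (2 : WithBot ℕ∞) ≤ ringKrullDim ((f.fiber s).presheaf.stalk z'))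
    (F : X.Modules) (hF : Coh.IsCoh F)
    (hFinv : ∀ w ∈ U, w ⤳ f.fiberι s z → RelCanon.InvertibleAt F w)
    (hFref : Module.IsReflexive (X.presheaf.stalk (f.fiberι s z))
      (F.presheaf.stalk (f.fiberι s z)))
    (N : (f.fiber s).Modules) (hNc : Coh.IsCoh N) (hN : PicF.IsInvertible N)
    (α : ((Scheme.Modules.pullback (f.fiberι s)).obj F).restrict ((f.fiberι s) ⁻¹ᵁ U).ι ≅
      N.restrict ((f.fiberι s) ⁻¹ᵁ U).ι)
    (r : ℕ) (hr : IsUnit (r : X.presheaf.stalk (f.fiberι s z)))
    (hpow : RelCanon.InvertibleAt (RelCanon.refPowZ F r) (f.fiberι s z)) :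
    RelCanon.InvertibleAt F (f.fiberι s z) := by
  haveI := hS.1
  haveI := hS.2.1
  haveI := K66.Fibre.isLocallyNoetherian_fiber f s
  set i := f.fiberι s with hi
  set Us : (f.fiber s).Opens := i ⁻¹ᵁ U with hUs
  have hd2 : ∀ z' : f.fiber s, z' ∉ Us →
      2 ≤ LocCoh.depth ((f.fiber s).presheaf.stalk z') ((f.fiber s).presheaf.stalk z') := by
    intro z' hz'
    refine K66.Fibre.le_depth_fiber f hS s z' ?_
    rw [K66.Fibre.ringKrullDim_fiber]
    exact hdim z' hz'
  have hdN : ∀ z' : f.fiber s, z' ∉ Us →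
      2 ≤ LocCoh.depth ((f.fiber s).presheaf.stalk z') (N.presheaf.stalk z') := by
    intro z' hz'
    obtain ⟨n⟩ := K970.InvAt.nonempty_stalk_equiv z' (hN z')
    have h1 : LocCoh.depth ((f.fiber s).presheaf.stalk z') ((f.fiber s).presheaf.stalk z') =
      LocCoh.depth ((f.fiber s).presheaf.stalk z') (N.presheaf.stalk z') :=
        Localalg.Depth.idealDepth_congr_equiv _ n
    rw [← h1]
    exact hd2 z' hz'
  obtain ⟨β, hβ⟩ := Dual.H375.Hartogs.exists_extend hNc Us hdN α.hom
  have hβU : ∀ w ∈ Us, Function.Bijective (stalkMapₗ β w) := by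
    intro w hw
    have h1 := bijective_restrict_iff Us.ι β ⟨w, hw⟩
    rw [hβ] at h1
    exact h1.mp (K476.HomSh4.bijective_stalkMapₗ_of_isIso _ _)
  have hiF : Coh.IsCoh ((Scheme.Modules.pullback i).obj F) :=
    FormalA.PullbackQC.isCoh_pullback i F hF
  set y := i z with hy
  letI iA : Algebra (S.presheaf.stalk (f y)) (X.presheaf.stalk y) := (f.stalkMap y).hom.toAlgebra
  haveI : Module.Finite (X.presheaf.stalk y) (F.presheaf.stalk y) :=
    Divis.StalkMod.finite_stalk hF y
  haveI : IsLocalHom (algebraMap (S.presheaf.stalk (f y)) (X.presheaf.stalk y)) :=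
    inferInstanceAs (IsLocalHom (f.stalkMap y).hom)
  haveI : Module.Flat (S.presheaf.stalk (f y)) (X.presheaf.stalk y) := Flat.stalkMap f y
  letI := stalkAlg i z
  letI := FlatMod.moduleStalkOver i ((Scheme.Modules.pullback i).obj F) z
  haveI := isScalarTower i ((Scheme.Modules.pullback i).obj F) z
  obtain ⟨e, he⟩ := exists_quot_equiv (can i F z) (isBaseChange_can i F z)
    (stalkMap_fiberι_surjective f s z) (fibreIdeal f y) (ker_stalkMap_fiberι f s z)
  set φ : X.presheaf.stalk y →+* (f.fiber s).presheaf.stalk z := (i.stalkMap z).hom with hφ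
  have hφs : Function.Surjective φ := stalkMap_fiberι_surjective f s z
  set J := offIdeal U y with hJ
  have hJφ : ∀ (w : f.fiber s) (h : w ⤳ z), J.map φ ≤ (primeOf h).asIdeal ↔ i w ∉ U := by
    intro w h
    rw [Ideal.map_le_iff_le_comap, hφ, comap_primeOf, hJ, offIdeal_le_primeOf_iff]
  let ψ₁ := stalkMapₗ β z
  have hloc : ∀ q : PrimeSpectrum ((f.fiber s).presheaf.stalk z), ¬ J.map φ ≤ q.asIdeal →
      Function.Bijective (LocalizedModule.map q.asIdeal.primeCompl ψ₁) := by
    intro q hq
    have hw : ptOf q ∈ Us := by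
      by_contra hc
      apply hq
      have h5 := hJφ (ptOf q) (ptOf_specializes q)
      rw [primeOf_ptOf] at h5
      exact h5.mpr hc
    have h := bijective_localized hiF.1 hNc.1 (ptOf_specializes q) ψ₁ (stalkMapₗ β (ptOf q))
      (fun m => K476.RefPow1.stalkMapₗ_specializes β _ m) (hβU _ hw)
    rw [primeOf_ptOf] at h
    exact h
  obtain ⟨n⟩ := K970.InvAt.nonempty_stalk_equiv z (hN z)
  let θ : F.presheaf.stalk y →+ (f.fiber s).presheaf.stalk z :=
    { toFun := fun m => n.symm (ψ₁ (e (Submodule.Quotient.mk m)))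
      map_zero' := by
        rw [Submodule.Quotient.mk_zero, map_zero, map_zero, map_zero]
      map_add' := fun a b => by
        rw [Submodule.Quotient.mk_add, map_add, map_add, map_add] }
  have hθs : ∀ (b : X.presheaf.stalk y) (x : F.presheaf.stalk y), θ (b • x) = φ b * θ x := by
    intro b x
    change n.symm (ψ₁ (e (Submodule.Quotient.mk (b • x)))) =
      φ b * n.symm (ψ₁ (e (Submodule.Quotient.mk x)))
    rw [Submodule.Quotient.mk_smul, he, map_smul, map_smul]
    rfl
  have hθ : ∀ (P : Ideal ((f.fiber s).presheaf.stalk z)) [P.IsPrime], ¬ J.map φ ≤ P →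
      ∃ x : F.presheaf.stalk y, θ x ∉ P := by
    intro P hP hJP
    obtain ⟨t, ht⟩ := (hloc ⟨P, hP⟩ hJP).2 (LocalizedModule.mk (n 1) 1)
    induction t using LocalizedModule.induction_on with
    | h m c =>
      have ht' : LocalizedModule.mk (ψ₁ m) c = LocalizedModule.mk (n 1) 1 := by
        rw [← ht]
        exact (LocalizedModule.map_mk _ _ _ _).symm
      obtain ⟨u, hu⟩ := LocalizedModule.mk_eq.mp ht'
      obtain ⟨m', rfl⟩ := e.surjective m
      obtain ⟨x, rfl⟩ := Submodule.Quotient.mk_surjective _ m'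
      refine ⟨x, fun hx => ?_⟩
      have h6 : (u : (f.fiber s).presheaf.stalk z) * θ x = u * (c : (f.fiber s).presheaf.stalk z) := by
        have h7 := congrArg n.symm hu
        simp only [Submonoid.smul_def, map_smul, LinearEquiv.symm_apply_apply, smul_eq_mul,
          Submonoid.coe_one, one_mul, mul_one] at h7
        exact h7
      have h8 : (u : (f.fiber s).presheaf.stalk z) * (c : (f.fiber s).presheaf.stalk z) ∈ P := by
        rw [← h6]
        exact P.mul_mem_left _ hx
      rcases hP.mem_or_mem h8 with h9 | h9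
      · exact u.2 h9
      · exact c.2 h9
  have hptU : ∀ (p : Ideal (X.presheaf.stalk y)) (hp : p.IsPrime), ¬ J ≤ p → ptOf ⟨p, hp⟩ ∈ U := by
    intro p hp hJp
    by_contra hc
    exact hJp ((offIdeal_le_iff U y ⟨p, hp⟩).mpr hc)
  obtain ⟨q, hq, hq'⟩ := StalkPow.exists_pow hF r y hpow
  obtain ⟨E⟩ := KeyRing.iso_of_pow (A := S.presheaf.stalk (f y)) φ hφs (ker_stalkMap_fiberι f s z)
    (J := J) ((le_idealDepth_ring_iff' z (J.map φ) 2).mpr fun w h hw => hd2 w ((hJφ w h).mp hw))
    (F.presheaf.stalk y) (fun q hq => K66.S3Crit.free_of_off F hF.1 U y hFinv q hq)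
    (fun p hp hJp _ => by
      obtain ⟨m, -, hm⟩ := exists_cyc F hF.1 (ptOf_specializes ⟨p, hp⟩)
        (hFinv _ (hptU p hp hJp) (ptOf_specializes _))
      rw [primeOf_ptOf] at hm
      exact ⟨m, hm⟩) θ hθs hθ r hr q hq
    (fun p hp hJp _ => by
      obtain ⟨m, hm, -⟩ := exists_cyc F hF.1 (ptOf_specializes ⟨p, hp⟩)
        (hFinv _ (hptU p hp hJp) (ptOf_specializes _))
      have := hq' _ (ptOf_specializes _) m hm
      rw [primeOf_ptOf] at this
      exact ⟨m, this⟩)
  exact (K970.InvAt.invertibleAt_iff_stalk_equiv hF y).mpr ⟨E.symm⟩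

end Main

end K682.KeyPoint
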