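import Groth.Agent.QGor.K682.KeyPoint
import Groth.Agent.QGor.K967.BCOmega

/-!
# Invertibility of `ω` along a quasi-Gorenstein fibre

* `relSkAt_of_invertibleAt`: modules invertible at a point satisfy relative `(S_k)` there;
* `exists_fib_iso`: `ω` and the dualizing sheaf of the fibre agree on the Cohen–Macaulay locus;
* `invertibleAt`: `ω` is invertible along the fibre if the dualizing sheaf of the fibre and some `ω^{[r]}` are.
-/

set_option autoImplicit false
set_option linter.style.haveILetI false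
universe u

open AlgebraicGeometry CategoryTheory Limits IsLocalRing TopologicalSpace RefHull

namespace K682.QuasiGor

open Groth.Agent K970.RelSk1 Groth.Agent.Flat2D.FiberStalk

section Gen

variable {X S : Scheme.{u}} (f : X ⟶ S)

/-- Modules invertible at a point satisfy relative `(S_k)` there. -/
theorem relSkAt_of_invertibleAt (k : ℕ) (hS : RelCanon.IsSkMor f k) {M : X.Modules} (x : X)
    (h : RelCanon.InvertibleAt M x) : RelCanon.RelSkAt f k M x := by
  haveI := hS.1
  obtain ⟨e⟩ := K970.InvAt.nonempty_stalk_equiv x h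
  obtain ⟨e'⟩ := K970.InvAt.nonempty_stalk_equiv (F := Coh.structureModule X) x
    (K970.InvAt.invertibleAt_structure x)
  refine relSkAt_of_equiv f k (F := Coh.structureModule X) x (e'.symm.trans e) ⟨?_, ?_⟩
  · exact K66.Fibre.isFlatOverAt_of_invertibleAt f x (K970.InvAt.invertibleAt_structure x)
  · exact skAt_of_iso k (FormalA.PullbackQC.pullbackUnitIso (f.fiberι (f x))).symm _ (hS.2.2 x)

/-- A natural number which is not zero in the residue field of the image is a unit in the local ring. -/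
theorem isUnit_natCast (x : X) (s : S) (hs : f x = s) (r : ℕ) (hr : (r : S.residueField s) ≠ 0) :
    IsUnit (r : X.presheaf.stalk x) := by
  subst hs
  have h1 : (r : X.residueField x) ≠ 0 := by
    intro h
    apply hr
    apply (f.residueFieldMap x).hom.injective
    rw [map_natCast, map_zero]
    exact h
  rw [← IsLocalRing.residue_ne_zero_iff_isUnit, map_natCast]
  exact h1

end Gen

section Main

variable (A : Type u) [CommRing A] [IsNoetherianRing A] (Y : Scheme.{u})
  [Y.Over (Spec (CommRingCat.of A))] [IsProper (Y ↘ Spec (CommRingCat.of A))] (d : ℕ)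
  (hd : Cyc.HasRelDim (Y ↘ Spec (CommRingCat.of A)) d)
  (ω : Y.Modules) (hω : RelCanon.IsDualizingSheaf A Y d ω)

include hd hω

/-- `ω` and the dualizing sheaf of the fibre agree on the Cohen–Macaulay locus. -/
theorem exists_fib_iso [Flat (Y ↘ Spec (CommRingCat.of A))] (U : Y.Opens)
    (hU : ∀ x ∈ U, MoreMor.IsCMAt (Y ↘ Spec (CommRingCat.of A)) x)
    (t : Spec (CommRingCat.of A)) (ωt : ((Y ↘ Spec (CommRingCat.of A)).fiber t).Modules)
    (hωt : @RelCanon.IsDualizingSheaf ((Spec (CommRingCat.of A)).residueField t) _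
      ((Y ↘ Spec (CommRingCat.of A)).fiber t)
      ⟨(Y ↘ Spec (CommRingCat.of A)).fiberToSpecResidueField t⟩ d ωt) :
    Nonempty (((Scheme.Modules.pullback ((Y ↘ Spec (CommRingCat.of A)).fiberι t)).obj ω).restrict
      (((Y ↘ Spec (CommRingCat.of A)).fiberι t) ⁻¹ᵁ U).ι ≅
        ωt.restrict (((Y ↘ Spec (CommRingCat.of A)).fiberι t) ⁻¹ᵁ U).ι) := by
  let f := Y ↘ Spec (CommRingCat.of A)
  let κ : Type u := (Spec (CommRingCat.of A)).residueField t
  let _ : (f.fiber t).Over (Spec (CommRingCat.of κ)) := ⟨f.fiberToSpecResidueField t⟩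
  have hp : IsPullback (f.fiberι t) ((f.fiber t) ↘ Spec (CommRingCat.of κ)) f
      ((Spec (CommRingCat.of A)).fromSpecResidueField t) := IsPullback.of_hasPullback _ _
  obtain ⟨e⟩ := K968.Compare4.nonempty_restrict_iso A hd hω κ hp (ω' := ωt) hωt (j := U.ι)
    (j' := ((f.fiberι t) ⁻¹ᵁ U).ι) (pV := (f.fiberι t) ∣_ U)
    (isPullback_morphismRestrict (f.fiberι t) U) (fun x => hU _ x.2)
  exact ⟨((FormalB.PullCoh.restrictPullbackIso (f.fiberι t) U).app ω).symm ≪≫ e.symm⟩

omit [IsNoetherianRing A] hω in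
/-- A dualizing sheaf of the fibre. -/
theorem exists_fib (t : Spec (CommRingCat.of A)) :
    ∃ ωt : ((Y ↘ Spec (CommRingCat.of A)).fiber t).Modules, Coh.IsCoh ωt ∧
      @RelCanon.IsDualizingSheaf ((Spec (CommRingCat.of A)).residueField t) _
      ((Y ↘ Spec (CommRingCat.of A)).fiber t)
      ⟨(Y ↘ Spec (CommRingCat.of A)).fiberToSpecResidueField t⟩ d ωt := by
  let f := Y ↘ Spec (CommRingCat.of A)
  let κ : Type u := (Spec (CommRingCat.of A)).residueField t
  let _ : (f.fiber t).Over (Spec (CommRingCat.of κ)) := ⟨f.fiberToSpecResidueField t⟩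
  have hp : IsPullback (f.fiberι t) ((f.fiber t) ↘ Spec (CommRingCat.of κ)) f
      ((Spec (CommRingCat.of A)).fromSpecResidueField t) := IsPullback.of_hasPullback _ _
  have hpr : IsProper ((f.fiber t) ↘ Spec (CommRingCat.of κ)) :=
    MorphismProperty.of_isPullback hp inferInstance
  have hd' := K968.Compare2.hasRelDim_bc hp hd
  obtain ⟨ωt, hωt⟩ := K967.OmegaBasic.exists_isDualizingSheaf κ (f.fiber t) d
    (K967.ReflUnit.dim_fiber_le hd')
  exact ⟨ωt, K967.OmegaBasic.isCoh κ (f.fiber t) d ωt hωt (K967.ReflUnit.dim_fiber_le hd'), hωt⟩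

/-- `ω` is invertible along a quasi-Gorenstein fibre if some `ω^{[r]}` is, `r` invertible in the residue field. -/
theorem invertibleAt (hS : RelCanon.IsSkMor (Y ↘ Spec (CommRingCat.of A)) 2)
    (hG : ∀ y : Y, y ∉ RelCanon.gorLocus (Y ↘ Spec (CommRingCat.of A)) →
      (2 : WithBot ℕ∞) ≤ ringKrullDim (((Y ↘ Spec (CommRingCat.of A)).fiber
        ((Y ↘ Spec (CommRingCat.of A)) y)).presheaf.stalk
          ((Y ↘ Spec (CommRingCat.of A)).asFiber y)))
    (t : Spec (CommRingCat.of A))
    (hqg : ∀ ωt : ((Y ↘ Spec (CommRingCat.of A)).fiber t).Modules,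
      @RelCanon.IsDualizingSheaf ((Spec (CommRingCat.of A)).residueField t) _
      ((Y ↘ Spec (CommRingCat.of A)).fiber t)
      ⟨(Y ↘ Spec (CommRingCat.of A)).fiberToSpecResidueField t⟩ d ωt → PicF.IsInvertible ωt)
    (r : ℕ) (hrk : (r : (Spec (CommRingCat.of A)).residueField t) ≠ 0)
    (y : Y) (hy : (Y ↘ Spec (CommRingCat.of A)) y = t)
    (hinv : RelCanon.InvertibleAt (RelCanon.refPowZ ω r) y) :
    RelCanon.InvertibleAt ω y := by
  have : IsNoetherianRing (CommRingCat.of A) := inferInstanceAs (IsNoetherianRing A)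
  have hlN : IsLocallyNoetherian Y :=
    LocallyOfFiniteType.isLocallyNoetherian (Y ↘ Spec (CommRingCat.of A))
  have hfl : Flat (Y ↘ Spec (CommRingCat.of A)) := hS.1
  have hc := K967.OmegaBasic.isCoh A Y d ω hω (K967.ReflUnit.dim_fiber_le hd)
  have hr := K967.OmegaBasic.isReflexive A Y d hd ω hω hS hG
  obtain ⟨z, rfl⟩ := K66.Main.exists_asFiber (Y ↘ Spec (CommRingCat.of A)) hy
  obtain ⟨ωt, hωtc, hωt⟩ := exists_fib A Y d hd t
  let U : Y.Opens := ⟨RelCanon.gorLocus (Y ↘ Spec (CommRingCat.of A)),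
    S3617.result Y _ (Y ↘ Spec (CommRingCat.of A))⟩
  obtain ⟨α⟩ := exists_fib_iso A Y d hd ω hω U
    (fun x hx => Dual.H373.Core.isCMAt_of_isGorensteinAt _ x hx) t ωt hωt
  refine KeyPoint.invertibleAt_of_pow (Y ↘ Spec (CommRingCat.of A)) hS U t z ?_ ω hc
    (fun w hw _ => K967.OmegaBasic.invertibleAt A Y d hd ω hω w hw) ?_ ωt hωtc (hqg ωt hωt) α r
    (isUnit_natCast _ _ t (apply_fiberι _ t z) r hrk) hinv
  · intro z' hz'
    rw [← K66.Fibre.ringKrullDim_fiber]
    exact hG _ hz'
  · refine (K476.HomSh4.bijective_stalkMapₗ_bidualMap_iff_of_isCoh hc _).1 ?_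
    haveI : IsIso (bidualMap ω) := hr
    exact K476.HomSh4.bijective_stalkMapₗ_of_isIso _ _

end Main

section Fields

variable {A : Type u} [CommRing A] {Y : Scheme.{u}} (f : Y ⟶ Spec (CommRingCat.of A)) [IsProper f]
  [Flat f] (d : ℕ) (hd : Cyc.HasRelDim f d)
  {B : Type u} [CommRing B] (φ : CommRingCat.of A ⟶ CommRingCat.of B)
  {Y' : Scheme.{u}} {f' : Y' ⟶ Spec (CommRingCat.of B)} {p : Y' ⟶ Y}
  (H : IsPullback p f' f (Spec.map φ)) (t' : Spec (CommRingCat.of B))

include hd H

/-- Invertibility of the dualizing sheaf of a fibre passes to the fibres of the base change. -/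
theorem isInvertible_bc
    (hqg : ∀ ωt : (f.fiber (Spec.map φ t')).Modules,
      @RelCanon.IsDualizingSheaf ((Spec (CommRingCat.of A)).residueField (Spec.map φ t')) _
      (f.fiber (Spec.map φ t')) ⟨f.fiberToSpecResidueField (Spec.map φ t')⟩ d ωt →
        PicF.IsInvertible ωt)
    (ωt' : (f'.fiber t').Modules)
    (h : @RelCanon.IsDualizingSheaf ((Spec (CommRingCat.of B)).residueField t') _
      (f'.fiber t') ⟨f'.fiberToSpecResidueField t'⟩ d ωt') : PicF.IsInvertible ωt' := by
  obtain ⟨ψ, ρ, hρ, -⟩ := K970.BCHyp.exists_fibre_fibre φ H t'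
  let κ : Type u := (Spec (CommRingCat.of A)).residueField (Spec.map φ t')
  let κ' : Type u := (Spec (CommRingCat.of B)).residueField t'
  let _ : (f.fiber (Spec.map φ t')).Over (Spec (CommRingCat.of κ)) :=
    ⟨f.fiberToSpecResidueField (Spec.map φ t')⟩
  let _ : (f'.fiber t').Over (Spec (CommRingCat.of κ')) := ⟨f'.fiberToSpecResidueField t'⟩
  have hp : IsPullback (f.fiberι (Spec.map φ t')) ((f.fiber (Spec.map φ t')) ↘ Spec (CommRingCat.of κ)) f
      ((Spec (CommRingCat.of A)).fromSpecResidueField (Spec.map φ t')) :=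
    IsPullback.of_hasPullback _ _
  have hpr : IsProper ((f.fiber (Spec.map φ t')) ↘ Spec (CommRingCat.of κ)) :=
    MorphismProperty.of_isPullback hp inferInstance
  have hfl : Flat ((f.fiber (Spec.map φ t')) ↘ Spec (CommRingCat.of κ)) :=
    MorphismProperty.of_isPullback hp inferInstance
  have hd' := K968.Compare2.hasRelDim_bc hp hd
  obtain ⟨ωt, hωt⟩ := K967.OmegaBasic.exists_isDualizingSheaf κ (f.fiber (Spec.map φ t')) d
    (K967.ReflUnit.dim_fiber_le hd')
  have h1 := K968.Compare2.isDualizingSheaf_pullback κ d hd' κ' ψ.hom ρ hρ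
    (RingHom.Flat.of_isField
      (Field.toIsField ((Spec (CommRingCat.of A)).residueField (Spec.map φ t'))) ψ.hom) hωt
  obtain ⟨e⟩ := K968.Compare1.iso_of_isDualizingSheaf (A := κ') h1 h
  intro x
  exact K970.InvAt.invertibleAt_of_iso e x
    (K970.InvAt.invertibleAt_pullback ρ ωt x (hqg ωt hωt _))

end Fields

end K682.QuasiGor
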