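import Groth.Agent.QGor.K970.RefPow
import Groth.Agent.QGor.K66.StalkOff
import Groth.Agent.SDiv.K476.RefPow1

/-!
# Powers of stalk elements in reflexive powers

For `e ∈ F_x`: `tpow e n ∈ (F^{⊗ n})_x` and `rpow n e ∈ (F^{[n]})_x`; they generate if `e` does. If `F^{[r]}` is
invertible at `y`, then `exists_pow` gives a function `q : F_y → O_{X,y}` with `q (b x) = b^r q x` which is a unit at the
generizations of `y` where `x` generates.
-/

set_option autoImplicit false
set_option linter.style.haveILetI false
universe u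

noncomputable section

open CategoryTheory CategoryTheory.Limits AlgebraicGeometry TopologicalSpace Opposite
open RefHull K476.HomSh1 K476.HomSh4 Groth.Agent.CycB.ModStalk K476.TensStalk
open Groth.Agent.CycB.LocQuot

namespace K682.StalkPow

variable {X : Scheme.{u}} {F : X.Modules}

/-- The tensor power of a stalk element. -/
def tpow {x : X} (e : F.presheaf.stalk x) : (n : ℕ) → (CohB1.tensorPow F n).presheaf.stalk x
  | 0 => unitGerm x
  | n + 1 => stmul (M := CohB1.tensorPow F n) (N := F) (tpow e n) e

theorem tpow_zero {x : X} (e : F.presheaf.stalk x) : tpow e 0 = unitGerm x := rfl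

theorem tpow_succ {x : X} (e : F.presheaf.stalk x) (n : ℕ) :
    tpow e (n + 1) = stmul (M := CohB1.tensorPow F n) (N := F) (tpow e n) e := rfl

theorem tpow_smul {x : X} (a : X.presheaf.stalk x) (e : F.presheaf.stalk x) (n : ℕ) :
    tpow (a • e) n = a ^ n • tpow e n := by
  induction n with
  | zero => rw [tpow_zero, tpow_zero, pow_zero, one_smul]
  | succ n ih =>
    rw [tpow_succ, tpow_succ, ih, smul_stmul, stmul_smul, smul_smul, ← pow_succ]
    rfl

theorem stalkSpecializes_tpow {x y : X} (h : y ⤳ x) (e : F.presheaf.stalk x) (n : ℕ) :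
    (CohB1.tensorPow F n).presheaf.stalkSpecializes h (tpow e n) =
      tpow (F.presheaf.stalkSpecializes h e) n := by
  induction n with
  | zero => exact stalkSpecializes_unitGerm h
  | succ n ih =>
    rw [tpow_succ, tpow_succ, ← ih, ← stalkSpecializes_stmul]
    rfl

theorem isGen_tpow {x : X} {e : F.presheaf.stalk x} (he : IsGen F x e) (n : ℕ) :
    IsGen (CohB1.tensorPow F n) x (tpow e n) := by
  induction n with
  | zero => exact isGen_unitGerm x
  | succ n ih => exact isGen_stmul ih he

/-- The reflexive power of a stalk element. -/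
def rpow (n : ℕ) {x : X} (e : F.presheaf.stalk x) : (RelCanon.refPowZ F n).presheaf.stalk x :=
  stalkMapₗ (bidualMap (CohB1.tensorPow F n)) x (tpow e n)

theorem rpow_smul (n : ℕ) {x : X} (a : X.presheaf.stalk x) (e : F.presheaf.stalk x) :
    rpow n (a • e) = a ^ n • rpow n e := by
  rw [rpow, tpow_smul, map_smul]
  rfl

theorem stalkSpecializes_rpow (n : ℕ) {x y : X} (h : y ⤳ x) (e : F.presheaf.stalk x) :
    (RelCanon.refPowZ F n).presheaf.stalkSpecializes h (rpow n e) =
      rpow n (F.presheaf.stalkSpecializes h e) := by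
  rw [rpow, rpow, ← stalkSpecializes_tpow]
  exact (K476.RefPow1.stalkMapₗ_specializes (bidualMap _) h _).symm

theorem free_of_isGen {x : X} {e : F.presheaf.stalk x} (he : IsGen F x e) :
    Module.Free (X.presheaf.stalk x) (F.presheaf.stalk x) :=
  Module.Free.of_equiv (LinearEquiv.ofBijective
    (LinearMap.toSpanSingleton (X.presheaf.stalk x) (F.presheaf.stalk x) e) he)

theorem isGen_rpow [IsLocallyNoetherian X] (hF : Coh.IsCoh F) (n : ℕ) {x : X}
    {e : F.presheaf.stalk x} (he : IsGen F x e) :
    IsGen (RelCanon.refPowZ F n) x (rpow n e) :=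
  isGen_map (isGen_tpow he n) (bidualMap (CohB1.tensorPow F n))
    (bijective_stalkMapₗ_bidualMap_of_free (K970.RefPow.isCoh_tensorPow hF n) x
      (free_of_isGen (isGen_tpow he n)))

/-- A module invertible at `y` has a stalk element which generates the stalks at all generizations of `y`. -/
theorem exists_isGen {G : X.Modules} {y : X} (h : RelCanon.InvertibleAt G y) :
    ∃ g : G.presheaf.stalk y, ∀ (w : X) (hw : w ⤳ y), IsGen G w (G.presheaf.stalkSpecializes hw g) := by
  obtain ⟨U, hy, ⟨e⟩⟩ := h
  obtain ⟨t, ht⟩ := exists_isGenOn_of_iso e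
  refine ⟨G.presheaf.germ U y hy t, fun w hw => ?_⟩
  have h1 : G.presheaf.stalkSpecializes hw (G.presheaf.germ U y hy t) =
      G.presheaf.germ U w (hw.mem_open U.2 hy) t :=
    TopCat.Presheaf.germ_stalkSpecializes_apply G.presheaf hy hw t
  rw [h1]
  exact ht.isGen w _

theorem stalkSpecializes_refl (G : X.Modules) (y : X) (h : y ⤳ y) (m : G.presheaf.stalk y) :
    G.presheaf.stalkSpecializes h m = m := by
  obtain ⟨U, hx, s, rfl⟩ := TopCat.Presheaf.exists_germ_eq G.presheaf m
  exact TopCat.Presheaf.germ_stalkSpecializes_apply G.presheaf hx h s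

/-- The `r`-th power function. -/
theorem exists_pow [IsLocallyNoetherian X] (hF : Coh.IsCoh F) (r : ℕ) (y : X)
    (h : RelCanon.InvertibleAt (RelCanon.refPowZ F r) y) :
    ∃ q : F.presheaf.stalk y → X.presheaf.stalk y, (∀ b x, q (b • x) = b ^ r * q x) ∧
      ∀ (w : X) (hw : w ⤳ y) (x : F.presheaf.stalk y),
        IsGen F w (F.presheaf.stalkSpecializes hw x) → q x ∉ (primeOf hw).asIdeal := by
  obtain ⟨g, hg⟩ := exists_isGen h
  have hgy : IsGen (RelCanon.refPowZ F r) y g := by
    have := hg y specializes_rfl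
    rwa [stalkSpecializes_refl] at this
  let E : X.presheaf.stalk y ≃ₗ[X.presheaf.stalk y] (RelCanon.refPowZ F r).presheaf.stalk y :=
    LinearEquiv.ofBijective (LinearMap.toSpanSingleton _ _ g) hgy
  have hE : ∀ b, E b = b • g := fun b => rfl
  refine ⟨fun x => E.symm (rpow r x), fun b x => ?_, fun w hw x hx => ?_⟩
  · change E.symm (rpow r (b • x)) = b ^ r * E.symm (rpow r x)
    rw [rpow_smul, map_smul, smul_eq_mul]
  · have h1 : (E.symm (rpow r x)) • g = rpow r x := by
      rw [← hE, LinearEquiv.apply_symm_apply]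
    have h2 := congrArg ((RelCanon.refPowZ F r).presheaf.stalkSpecializes hw) h1
    rw [stalkSpecializes_smul, stalkSpecializes_rpow] at h2
    have h3 := isGen_rpow hF r hx
    rw [← h2] at h3
    obtain ⟨c, hc⟩ := h3.2 ((RelCanon.refPowZ F r).presheaf.stalkSpecializes hw g)
    have h4 : c * (X.presheaf.stalkSpecializes hw (E.symm (rpow r x))) = 1 := by
      apply (hg w hw).1
      simp only
      rw [mul_smul, one_smul]
      exact hc
    intro hmem
    have h5 : (X.presheaf.stalkSpecializes hw (E.symm (rpow r x))) ∈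
        IsLocalRing.maximalIdeal (X.presheaf.stalk w) := hmem
    rw [IsLocalRing.mem_maximalIdeal, mem_nonunits_iff] at h5
    exact h5 (IsUnit.of_mul_eq_one_right c h4)

end K682.StalkPow

end
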