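import Groth.Agent.QGor.K682.QuasiGor
import Groth.Agent.QGor.K682.FlatFib
import Groth.Agent.Ega2.TensMon

/-!
# Comparison of reflexive powers along a fibre

* `invertibleAt_refPowZ_of_fib`: `F`, `G` invertible on `U`, isomorphic on the fibre over `U`, `F^{[r]}` relatively `S_2`
  and `G^{[r]}` invertible along the fibre: `F^{[r]}` is invertible along the fibre;
* `nonempty_refPowZ_one`: `F^{[1]} ≅ F` for reflexive `F`;
* `nonempty_equiv_refPowZ`: the stalks of reflexive powers of locally isomorphic modules;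
* `invertibleAt_refPowZ`: the case of a virtual canonical sheaf.
-/

set_option autoImplicit false
set_option linter.style.haveILetI false
universe u

open AlgebraicGeometry CategoryTheory Limits IsLocalRing TopologicalSpace RefHull

namespace K682.VirtPow

open Groth.Agent K970.RelSk1 Groth.Agent.Flat2D.FiberStalk K66.StalkOff

section Gen

variable {X S : Scheme.{u}} (f : X ⟶ S) [IsLocallyNoetherian X] [IsLocallyNoetherian S]

omit [IsLocallyNoetherian S] in
theorem invertibleAt_refPowZ_of_fib (hS : RelCanon.IsSkMor f 2) (U : X.Opens) (s : S)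
    (hdim : ∀ z' : f.fiber s, f.fiberι s z' ∉ U →
      (2 : WithBot ℕ∞) ≤ ringKrullDim ((f.fiber s).presheaf.stalk z'))
    (F G : X.Modules) (hF : Coh.IsCoh F) (hG : Coh.IsCoh G)
    (hFU : ∀ w ∈ U, RelCanon.InvertibleAt F w) (hGU : ∀ w ∈ U, RelCanon.InvertibleAt G w)
    (e : ((Scheme.Modules.pullback (f.fiberι s)).obj F).restrict ((f.fiberι s) ⁻¹ᵁ U).ι ≅
      ((Scheme.Modules.pullback (f.fiberι s)).obj G).restrict ((f.fiberι s) ⁻¹ᵁ U).ι)
    (r : ℤ) (h2 : ∀ z : f.fiber s, RelCanon.RelSkAt f 2 (RelCanon.refPowZ F r) (f.fiberι s z))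
    (hr : ∀ z : f.fiber s, RelCanon.InvertibleAt (RelCanon.refPowZ G r) (f.fiberι s z))
    (z : f.fiber s) : RelCanon.InvertibleAt (RelCanon.refPowZ F r) (f.fiberι s z) := by
  haveI := hS.1
  haveI := hS.2.1
  haveI := K66.Fibre.isLocallyNoetherian_fiber f s
  set i := f.fiberι s with hi
  have hFr := K970.RefPow.isCoh_refPowZ hF r
  have hGr := K970.RefPow.isCoh_refPowZ hG r
  have hP1 : Coh.IsCoh ((Scheme.Modules.pullback i).obj (RelCanon.refPowZ F r)) :=
    FormalA.PullbackQC.isCoh_pullback i _ hFr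
  have hP2 : Coh.IsCoh ((Scheme.Modules.pullback i).obj (RelCanon.refPowZ G r)) :=
    FormalA.PullbackQC.isCoh_pullback i _ hGr
  obtain ⟨α1⟩ := K66.Main.nonempty_pullback_refPowZ i F U hFU _ e r
  obtain ⟨α2⟩ := K66.Main.nonempty_pullback_refPowZ i G U hGU _ (Iso.refl _) r
  have hd2 : ∀ z' : f.fiber s, z' ∉ i ⁻¹ᵁ U →
      2 ≤ LocCoh.depth ((f.fiber s).presheaf.stalk z') ((f.fiber s).presheaf.stalk z') := by
    intro z' hz'
    refine K66.Fibre.le_depth_fiber f hS s z' ?_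
    rw [K66.Fibre.ringKrullDim_fiber]
    exact hdim z' hz'
  have hi2 : ∀ z' : f.fiber s, RelCanon.InvertibleAt
      ((Scheme.Modules.pullback i).obj (RelCanon.refPowZ G r)) z' := fun z' =>
    K970.InvAt.invertibleAt_pullback i _ z' (hr z')
  have hi1 : ∀ z' : f.fiber s, z' ∈ i ⁻¹ᵁ U → RelCanon.InvertibleAt
      ((Scheme.Modules.pullback i).obj (RelCanon.refPowZ F r)) z' := fun z' hz' =>
    K970.InvAt.invertibleAt_pullback i _ z' (K66.Main.invertibleAt_refPowZ F U hFU r _ hz')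
  have hu2 := Dual.H375.Hartogs.isIso_unit hP2 (i ⁻¹ᵁ U) (fun z' hz' => by
    obtain ⟨n⟩ := K970.InvAt.nonempty_stalk_equiv z' (hi2 z')
    have h1 : LocCoh.depth ((f.fiber s).presheaf.stalk z') ((f.fiber s).presheaf.stalk z') =
      LocCoh.depth ((f.fiber s).presheaf.stalk z') (((Scheme.Modules.pullback i).obj
        (RelCanon.refPowZ G r)).presheaf.stalk z') := Localalg.Depth.idealDepth_congr_equiv _ n
    rw [← h1]
    exact hd2 z' hz')
  have hu1 := Dual.H375.Hartogs.isIso_unit hP1 (i ⁻¹ᵁ U) (fun z' hz' => by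
    refine K66.SkFull.le_depth_of_skAt _ hP1 (i ⁻¹ᵁ U) z' 2 (fun w hw _ => hi1 w hw)
      ((K66.SkFull.le_idealDepth_ring_iff (i ⁻¹ᵁ U) z' 1).mpr fun w _ hw =>
        le_trans (by norm_num) (hd2 w hw)) ?_ (hdim z' hz')
    exact (skAt_fiber_iff f 2 _ s z').mpr ((relSkAt_iff f 2 _ (i z')).mp (h2 z')).2)
  obtain ⟨e12⟩ := K967.BCOmega.nonempty_iso_of_unit (i ⁻¹ᵁ U) hu1 hu2 (α1 ≪≫ α2.symm)
  exact FlatFib.invertibleAt_of_fib f hFr s z (h2 z).1
    (K970.InvAt.invertibleAt_of_iso e12.symm z (hi2 z))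

end Gen

section One

variable {X : Scheme.{u}}

/-- `F^{[1]} ≅ F` for reflexive `F`. -/
theorem nonempty_refPowZ_one {F : X.Modules} (hF : RefHull.IsReflexive F) :
    Nonempty (RelCanon.refPowZ F 1 ≅ F) := by
  haveI : IsIso (bidualMap F) := hF
  exact ⟨K476.HomSh1.ddualIso (Ega2.Tens.lunit F) ≪≫ (asIso (bidualMap F)).symm⟩

/-- Restriction of an isomorphism to a smaller open subset. -/
theorem nonempty_restrict_of_le {F G : X.Modules} {U V : X.Opens} (h : U ≤ V)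
    (e : F.restrict V.ι ≅ G.restrict V.ι) : Nonempty (F.restrict U.ι ≅ G.restrict U.ι) := by
  have hc : U.ι = X.homOfLE h ≫ V.ι := (X.homOfLE_ι h).symm
  let r (H : X.Modules) : H.restrict U.ι ≅ (H.restrict V.ι).restrict (X.homOfLE h) :=
    (Scheme.Modules.restrictFunctorCongr hc).app H ≪≫
      (Scheme.Modules.restrictFunctorComp (X.homOfLE h) V.ι).app H
  exact ⟨r F ≪≫ (Scheme.Modules.restrictFunctor (X.homOfLE h)).mapIso e ≪≫ (r G).symm⟩

/-- Locally isomorphic modules have isomorphic stalks of reflexive powers. -/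
theorem nonempty_equiv_refPowZ {F G : X.Modules} (U : X.Opens) (y : X) (hy : y ∈ U)
    (e : F.restrict U.ι ≅ G.restrict U.ι) (m : ℤ) :
    Nonempty ((RelCanon.refPowZ F m).presheaf.stalk y ≃ₗ[X.presheaf.stalk y]
      (RelCanon.refPowZ G m).presheaf.stalk y) := by
  obtain ⟨e1⟩ := K66.RefZ.nonempty_refPowZ_restrict U.ι F m
  obtain ⟨e2⟩ := K66.RefZ.nonempty_refPowZ_congr e m
  obtain ⟨e3⟩ := K66.RefZ.nonempty_refPowZ_restrict U.ι G m
  exact ⟨K66.Core.stalkEquivOfRestrict U.ι (⟨y, hy⟩ : (U : Scheme.{u}))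
    (Fdesc.Skyscraper.stalkIso (e1 ≪≫ e2 ≪≫ e3.symm) _)⟩

/-- A tensor product with a module invertible at `y`, near `y`. -/
theorem exists_restrict_of_tensor {L M G : X.Modules} (V : X.Opens)
    (e : (CohB1.tensorMod L M).restrict V.ι ≅ G.restrict V.ι) (y : X) (hy : y ∈ V)
    (hM : RelCanon.InvertibleAt M y) :
    ∃ W : X.Opens, y ∈ W ∧ Nonempty (G.restrict W.ι ≅ L.restrict W.ι) := by
  obtain ⟨W, hyW, ⟨eM⟩⟩ := hM
  have hc : (V ⊓ W).ι = X.homOfLE inf_le_right ≫ W.ι := (X.homOfLE_ι inf_le_right).symm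
  obtain ⟨e1⟩ := nonempty_restrict_of_le (inf_le_left : V ⊓ W ≤ V) e
  let eM' : M.restrict (V ⊓ W).ι ≅ Coh.structureModule ((V ⊓ W : X.Opens) : Scheme.{u}) :=
    (Scheme.Modules.restrictFunctorCongr hc).app M ≪≫
      (Scheme.Modules.restrictFunctorComp (X.homOfLE inf_le_right) W.ι).app M ≪≫
        (Scheme.Modules.restrictFunctor (X.homOfLE inf_le_right)).mapIso eM ≪≫
          (Scheme.Modules.restrictFunctorIsoPullback _).app _ ≪≫
            FormalA.PullbackQC.pullbackUnitIso _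
  exact ⟨V ⊓ W, ⟨hy, hyW⟩, ⟨e1.symm ≪≫ Ega3B.TensRestrict.restrictIso _ L M ≪≫
    Ega2.Tens.mapTIso (Iso.refl _) eM' ≪≫ Ega2.Tens.runit _⟩⟩

end One

section Main

variable (A : Type u) [CommRing A] [IsNoetherianRing A] (Y : Scheme.{u})
  [Y.Over (Spec (CommRingCat.of A))] [IsProper (Y ↘ Spec (CommRingCat.of A))] (d : ℕ)
  (hd : Cyc.HasRelDim (Y ↘ Spec (CommRingCat.of A)) d)
  (ω : Y.Modules) (hω : RelCanon.IsDualizingSheaf A Y d ω)

include hd hω

/-- If `L` is flat with dualizing restriction to `Y_t`, `L^{[r]}` relatively `S_2` and `ω^{[r]}` invertible along `Y_t`,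
then `L^{[r]}` is invertible along `Y_t`. -/
theorem invertibleAt_refPowZ (hS : RelCanon.IsSkMor (Y ↘ Spec (CommRingCat.of A)) 2)
    (hG : ∀ y : Y, y ∉ RelCanon.gorLocus (Y ↘ Spec (CommRingCat.of A)) →
      (2 : WithBot ℕ∞) ≤ ringKrullDim (((Y ↘ Spec (CommRingCat.of A)).fiber
        ((Y ↘ Spec (CommRingCat.of A)) y)).presheaf.stalk
          ((Y ↘ Spec (CommRingCat.of A)).asFiber y)))
    (t : Spec (CommRingCat.of A)) (L : Y.Modules) (hL : Coh.IsCoh L)
    (hLf : FlatMod.IsFlatOver (Y ↘ Spec (CommRingCat.of A)) L)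
    (hLt : RelCanon.IsDualizingSheafFib (Y ↘ Spec (CommRingCat.of A)) d L t)
    (r : ℤ) (h2 : RelCanon.RelSk (Y ↘ Spec (CommRingCat.of A)) 2 (RelCanon.refPowZ L r))
    (hr : ∀ y : Y, (Y ↘ Spec (CommRingCat.of A)) y = t →
      RelCanon.InvertibleAt (RelCanon.refPowZ ω r) y)
    (y : Y) (hy : (Y ↘ Spec (CommRingCat.of A)) y = t) :
    RelCanon.InvertibleAt (RelCanon.refPowZ L r) y := by
  have : IsNoetherianRing (CommRingCat.of A) := inferInstanceAs (IsNoetherianRing A)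
  have hlN : IsLocallyNoetherian Y :=
    LocallyOfFiniteType.isLocallyNoetherian (Y ↘ Spec (CommRingCat.of A))
  have hfl : Flat (Y ↘ Spec (CommRingCat.of A)) := hS.1
  have hc := K967.OmegaBasic.isCoh A Y d ω hω (K967.ReflUnit.dim_fiber_le hd)
  obtain ⟨z, rfl⟩ := K66.Main.exists_asFiber (Y ↘ Spec (CommRingCat.of A)) hy
  let U : Y.Opens := ⟨RelCanon.gorLocus (Y ↘ Spec (CommRingCat.of A)),
    S3617.result Y _ (Y ↘ Spec (CommRingCat.of A))⟩
  have hUω : ∀ x ∈ U, RelCanon.InvertibleAt ω x := fun x hx =>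
    K967.OmegaBasic.invertibleAt A Y d hd ω hω x hx
  obtain ⟨α⟩ := QuasiGor.exists_fib_iso A Y d hd ω hω U
    (fun x hx => Dual.H373.Core.isCMAt_of_isGorensteinAt _ x hx) t _ hLt
  let i := (Y ↘ Spec (CommRingCat.of A)).fiberι t
  have h3 : ∀ z' : (Y ↘ Spec (CommRingCat.of A)).fiber t, i z' ∈ U →
      RelCanon.InvertibleAt L (i z') := by
    intro z' hz'
    refine FlatFib.invertibleAt_of_fib (Y ↘ Spec (CommRingCat.of A)) hL t z' (hLf _) ?_
    have h4 : RelCanon.InvertibleAt ((Scheme.Modules.pullback i).obj ω) z' :=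
      K970.InvAt.invertibleAt_pullback i ω z' (hUω _ hz')
    have h5 := (K970.InvAt.invertibleAt_restrict_iff (i ⁻¹ᵁ U).ι _ ⟨z', hz'⟩).mpr h4
    exact (K970.InvAt.invertibleAt_restrict_iff (i ⁻¹ᵁ U).ι _ ⟨z', hz'⟩).mp
      (K970.InvAt.invertibleAt_of_iso α _ h5)
  let U' : Y.Opens := U ⊓ K970.InvAt.invLocus L
  obtain ⟨α'⟩ := QuasiGor.exists_fib_iso A Y d hd ω hω U'
    (fun x hx => Dual.H373.Core.isCMAt_of_isGorensteinAt _ x hx.1) t _ hLt
  refine invertibleAt_refPowZ_of_fib (Y ↘ Spec (CommRingCat.of A)) hS U' t ?_ L ω hL hc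
    (fun w hw => hw.2) (fun w hw => hUω w hw.1) α'.symm r (fun z' => h2 _)
    (fun z' => hr _ (apply_fiberι _ t z')) z
  intro z' hz'
  rw [← K66.Fibre.ringKrullDim_fiber]
  refine hG _ fun h => hz' ⟨h, h3 z' h⟩

end Main

end K682.VirtPow
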